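import Cfsg.Agent.PS4.SD

/-! Extensions of table groups given by an action and a central cocycle. -/

set_option autoImplicit false

namespace Cfsg.Agent.L34A

open Cfsg.Agent.Comp Cfsg.Agent.X32 Cfsg.Agent.X32.TG

/-- the extension; `x` stands for the pair `(x % m, x / m)` -/
noncomputable def cx (N H : Tab) (n m : ℕ) (act c : ℕ → ℕ → ℕ) (iv : ℕ → ℕ) : Tab :=
  ⟨n, fun x y => force x fun x => force y fun y => force (Nat.div x m) fun h =>
    force (Nat.div y m) fun g =>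
    Nat.add (N.mu (N.mu (Nat.mod x m) (act h (Nat.mod y m))) (c h g)) (Nat.mul m (H.mu h g)), iv⟩

theorem cx_mu (N H : Tab) (n m : ℕ) (act c : ℕ → ℕ → ℕ) (iv : ℕ → ℕ) (x y : ℕ) :
    (cx N H n m act c iv).mu x y =
      N.mu (N.mu (x % m) (act (x / m) (y % m))) (c (x / m) (y / m)) + m * H.mu (x / m) (y / m) := by
  simp only [cx, force_eq]; rfl

noncomputable def chkC (N H : Tab) (n m : ℕ) (act c : ℕ → ℕ → ℕ) (iv : ℕ → ℕ) : Bool :=
  and' (and' (allB n fun a => and' (Nat.blt (iv a) n)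
      (and' (Nat.beq ((cx N H n m act c iv).mu (iv a) a) 0)
        (Nat.beq ((cx N H n m act c iv).mu 0 a) a)))
    (allB H.n fun h => allB H.n fun g => force (c h g) fun u => and' (Nat.blt u m)
      (and' (allB m fun x => Nat.beq (N.mu u x) (N.mu x u))
        (allB H.n fun k => and' (Nat.beq (act k u) u)
          (Nat.beq (N.mu u (c (H.mu h g) k)) (N.mu (c g k) (c h (H.mu g k))))))))
    (allB H.n fun h => allB m fun x => force (act h x) fun u => and' (Nat.blt u m)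
      (and' (allB m fun y => Nat.beq (act h (N.mu x y)) (N.mu u (act h y)))
        (allB H.n fun g => Nat.beq (act (H.mu g h) x) (act g u))))

theorem ok_cx {N H : Tab} {n m : ℕ} {act c : ℕ → ℕ → ℕ} {iv : ℕ → ℕ} (hN : N.OK) (hH : H.OK)
    (hm : N.n = m) (hn : n = m * H.n) (h : chkC N H n m act c iv = true) :
    (cx N H n m act c iv).OK := by
  subst hm
  simp only [chkC, allB_iff, force_eq, and'_eq_true, blt_iff, beq_iff] at h
  obtain ⟨⟨h1, h2⟩, h3⟩ := h
  have p := hN.pos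
  have mu := cx_mu N H n N.n act c iv
  have dv : ∀ x < n, x / N.n < H.n := fun x hx => Nat.div_lt_of_lt_mul (hn ▸ hx)
  have md : ∀ x, x % N.n < N.n := fun x => Nat.mod_lt _ p
  have l1 : ∀ x < n, ∀ y < n,
      N.mu (N.mu (x % N.n) (act (x / N.n) (y % N.n))) (c (x / N.n) (y / N.n)) < N.n :=
    fun x hx y hy => hN.lt _ (hN.lt _ (md x) _ (h3 _ (dv x hx) _ (md y)).1) _
      (h2 _ (dv x hx) _ (dv y hy)).1
  have e1 : ∀ x < n, ∀ y < n, (cx N H n N.n act c iv).mu x y % N.n = _ := fun x hx y hy => by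
    rw [mu, Nat.add_mul_mod_self_left, Nat.mod_eq_of_lt (l1 x hx y hy)]
  have e2 : ∀ x < n, ∀ y < n, (cx N H n N.n act c iv).mu x y / N.n = _ := fun x hx y hy => by
    rw [mu, Nat.add_mul_div_left _ _ p, Nat.div_eq_of_lt (l1 x hx y hy), Nat.zero_add]
  refine ⟨hn ▸ Nat.mul_pos p hH.pos, fun x hx y hy => ?_, fun a ha => (h1 a ha).1,
    fun x hx y hy u hu => ?_, fun a ha => (h1 a ha).2.2, fun a ha => (h1 a ha).2.1⟩
  · have a := l1 x hx y hy
    have b := Nat.mul_le_mul_left N.n (hH.lt _ (dv x hx) _ (dv y hy))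
    rw [mu]
    change _ < n
    rw [hn]
    rw [Nat.mul_succ] at b
    omega
  · rw [mu (_ : ℕ) u, mu x ((cx N H n N.n act c iv).mu y u), e1 x hx y hy, e2 x hx y hy,
      e1 y hy u hu, e2 y hy u hu, hH.assoc _ (dv x hx) _ (dv y hy) _ (dv u hu)]
    congr 1
    have hx' := dv x hx
    have hy' := dv y hy
    have hu' := dv u hu
    have ha := md x
    have hb := md y
    have hd := md u
    generalize x / N.n = h at *
    generalize y / N.n = g at *
    generalize u / N.n = k at *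
    generalize x % N.n = a at *
    generalize y % N.n = b at *
    generalize u % N.n = d at *
    have B := (h3 _ hx' _ hb).1
    have D' := (h3 _ hy' _ hd).1
    have D := (h3 _ hx' _ D').1
    have C1 := h2 _ hx' _ hy'
    have C3 := h2 _ hy' _ hu'
    have C2 := (h2 _ (hH.lt _ hx' _ hy') _ hu').1
    have C4 := (h2 _ hx' _ (hH.lt _ hy' _ hu')).1
    rw [(h3 _ hy' _ hd).2.2 _ hx', (h3 _ hx' _ (hN.lt _ hb _ D')).2.1 _ C3.1, (C3.2.2 _ hx').1,
      (h3 _ hx' _ hb).2.1 _ D']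
    have aB := hN.lt _ ha _ B
    rw [hN.assoc _ aB _ C1.1 _ D, C1.2.1 _ D, ← hN.assoc _ aB _ D _ C1.1,
      hN.assoc _ (hN.lt _ aB _ D) _ C1.1 _ C2, (C1.2.2 _ hu').2,
      ← hN.assoc _ (hN.lt _ aB _ D) _ C3.1 _ C4, hN.assoc _ ha _ B _ D,
      hN.assoc _ ha _ (hN.lt _ B _ D) _ C3.1]

theorem exists_hom_cx {N H : Tab} {n m : ℕ} {act c : ℕ → ℕ → ℕ} {iv : ℕ → ℕ}
    [Fact (cx N H n m act c iv).OK] (hm : 0 < m) (hn : n = m * H.n) {G : Type*} [Group G]
    (ψ l : ℕ → G) (h1 : ∀ a < m, ∀ b < m, N.mu a b < m ∧ ψ a * ψ b = ψ (N.mu a b))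
    (h2 : ∀ h < H.n, ∀ a < m, act h a < m ∧ l h * ψ a = ψ (act h a) * l h)
    (h3 : ∀ h < H.n, ∀ g < H.n, c h g < m ∧ l h * l g = ψ (c h g) * l (H.mu h g)) :
    ∃ φ : TG (cx N H n m act c iv) →* G, ∀ k, φ k = ψ (k.v % m) * l (k.v / m) := by
  refine ⟨MonoidHom.mk' (fun k => ψ (k.v % m) * l (k.v / m)) fun x y => ?_, fun _ => rfl⟩
  have dv : ∀ x : TG (cx N H n m act c iv), x.v / m < H.n := fun x =>
    Nat.div_lt_of_lt_mul (hn ▸ x.lt)
  have md : ∀ x, x % m < m := fun x => Nat.mod_lt _ hm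
  have a := h2 _ (dv x) _ (md y.v)
  have b := h3 _ (dv x) _ (dv y)
  have d := h1 _ (md x.v) _ a.1
  have e := h1 _ d.1 _ b.1
  change ψ ((cx N H n m act c iv).mu x.v y.v % m) * l ((cx N H n m act c iv).mu x.v y.v / m) = _
  rw [cx_mu, Nat.add_mul_mod_self_left, Nat.mod_eq_of_lt e.1, Nat.add_mul_div_left _ _ hm,
    Nat.div_eq_of_lt e.1, Nat.zero_add, ← e.2, ← d.2, mul_assoc, ← b.2, mul_assoc,
    ← mul_assoc (ψ (act _ _)), ← a.2]
  simp only [mul_assoc]

end Cfsg.Agent.L34A
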