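import Cfsg.Agent.L34A.Fuse
import Cfsg.Agent.CL2.Basic

/-! Subgroups of the centraliser of a 2-central involution of `Aut(L₃(4))`. -/

set_option autoImplicit false
set_option maxRecDepth 100000
set_option synthInstance.maxHeartbeats 400000
set_option synthInstance.maxSize 4000

namespace Cfsg.Agent.L34A

open Subgroup Cfsg.Agent.Comp Cfsg.Agent.X32 Cfsg.Agent.X32.TG

abbrev K := TG T00

def KO (k : K) : Prop := Mem (nat_lit 0xc33c3cc3000000000000000000000000c33c3cc3c33c3cc3c33c3cc3c33c3cc3c33c3cc3000000000000000000000000000000000000000000000000c33c3cc3c33c3cc3c33c3cc3c33c3cc3c33c3cc3000000000000000000000000c33c3cc3) k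

instance memKO (k : K) {b : Bool} [BD (Mem (nat_lit 0xc33c3cc3000000000000000000000000c33c3cc3c33c3cc3c33c3cc3c33c3cc3c33c3cc3000000000000000000000000000000000000000000000000c33c3cc3c33c3cc3c33c3cc3c33c3cc3c33c3cc3000000000000000000000000c33c3cc3) k) b] : BD (KO k) b :=
  ⟨BD.h (p := Mem _ k)⟩

noncomputable def UU : Subgroup K := sub (nat_lit 0xc33c3cc300000000000000000000000000000000c33c3cc3000000000000000000000000000000000000000000000000000000000000000000000000000000000000000000000000c33c3cc300000000000000000000000000000000c33c3cc3) (BD.of (by decide +kernel))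

instance memUU (k : K) {b : Bool} [BD (Mem (nat_lit 0xc33c3cc300000000000000000000000000000000c33c3cc3000000000000000000000000000000000000000000000000000000000000000000000000000000000000000000000000c33c3cc300000000000000000000000000000000c33c3cc3) k) b] : BD (k ∈ UU) b :=
  ⟨BD.h (p := Mem _ k)⟩

noncomputable def TT : Subgroup K := sub (nat_lit 0xffffffffffffffff00000000ffffffff00000000ffffffff000000000000000000000000000000000000000000000000000000000000000000000000000000000000000000000000ffffffff00000000ffffffff00000000ffffffffffffffff) (BD.of (by decide +kernel))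

instance memTT (k : K) {b : Bool} [BD (Mem (nat_lit 0xffffffffffffffff00000000ffffffff00000000ffffffff000000000000000000000000000000000000000000000000000000000000000000000000000000000000000000000000ffffffff00000000ffffffff00000000ffffffffffffffff) k) b] : BD (k ∈ TT) b :=
  ⟨BD.h (p := Mem _ k)⟩

noncomputable def AA : Subgroup K := sub (nat_lit 0xc000000300000000000000000000000000000000c0000003000000000000000000000000000000000000000000000000000000000000000000000000000000000000000000000000c000000300000000000000000000000000000000c0000003) (BD.of (by decide +kernel))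

instance memAA (k : K) {b : Bool} [BD (Mem (nat_lit 0xc000000300000000000000000000000000000000c0000003000000000000000000000000000000000000000000000000000000000000000000000000000000000000000000000000c000000300000000000000000000000000000000c0000003) k) b] : BD (k ∈ AA) b :=
  ⟨BD.h (p := Mem _ k)⟩

noncomputable def BB : Subgroup K := sub (nat_lit 0xc30000000000000000000000000000000000000300c00000000000000000000000000000000000000000000000000000000000000000000000000000000000000000000000000030000c000000000000000000000000000000000c0000003) (BD.of (by decide +kernel))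

instance memBB (k : K) {b : Bool} [BD (Mem (nat_lit 0xc30000000000000000000000000000000000000300c00000000000000000000000000000000000000000000000000000000000000000000000000000000000000000000000000030000c000000000000000000000000000000000c0000003) k) b] : BD (k ∈ BB) b :=
  ⟨BD.h (p := Mem _ k)⟩

noncomputable def QQ : Subgroup K := sub (nat_lit 0xc33c3cc33cc3c33c000000003cc3c33c00000000c33c3cc3000000000000000000000000000000000000000000000000000000000000000000000000000000000000000000000000c33c3cc3000000003cc3c33c000000003cc3c33cc33c3cc3) (BD.of (by decide +kernel))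

instance memQQ (k : K) {b : Bool} [BD (Mem (nat_lit 0xc33c3cc33cc3c33c000000003cc3c33c00000000c33c3cc3000000000000000000000000000000000000000000000000000000000000000000000000000000000000000000000000c33c3cc3000000003cc3c33c000000003cc3c33cc33c3cc3) k) b] : BD (k ∈ QQ) b :=
  ⟨BD.h (p := Mem _ k)⟩

theorem cls00 : ∀ k : K, k * k = 1 → k = 1 ∨ k = e 1 ∨ ∃ c, c * k * c⁻¹ ∈ es [2, 30, 32, 40, 160] :=
  BD.of (by decide +kernel)

theorem pair00 : ∀ r ∈ (es [2, 30, 32, 40, 160] : List K), ∀ r' ∈ (es [2, 30, 32, 40, 160] : List K),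
    sq r (e 1) = sq r' r' → sq r r = sq r' (e 1) → r ∈ UU :=
  BD.of (by decide +kernel)

instance UU_normal : UU.Normal := ⟨BD.of (by decide +kernel)⟩

theorem TT_p : IsPGroup 2 TT := isP_of (· ∈ TT) (fun _ h => h) (BD.of (by decide +kernel))

theorem TT_index : ¬ 2 ∣ TT.index := by
  rw [index_sub (a := 256) (b := 3)
    ((card_sub (· ∈ TT) fun _ => Iff.rfl).trans (by decide +kernel)) rfl]
  norm_num

theorem TT_z : (e 1 : K) ∈ TT ∧ ∀ u ∈ TT, (∀ k ∈ TT, Commute u k) → u = 1 ∨ u = e 1 :=
  BD.of (by decide +kernel)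

theorem UU_index : UU.index = 12 :=
  index_sub (a := 64) ((card_sub (· ∈ UU) fun _ => Iff.rfl).trans (by decide +kernel)) rfl

theorem UU_le : ∀ k ∈ UU, k ∈ TT ∧ KO k := BD.of (by decide +kernel)

theorem KO_gen : ∀ k, KO k → ∃ x ∈ (es [0, 128] : List K), x ^ 3 = 1 ∧
    ∃ y ∈ (es [0, 128, 134, 139, 140, 192, 199, 202, 205, 224, 236, 245, 248, 256, 269, 276, 281, 480,
      490, 499, 504, 512, 518, 531, 532, 544, 555, 562, 569, 608, 615, 626, 629] : List K),
      y ^ 3 = 1 ∧ (x * y * k) ^ 3 = 1 :=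
  BD.of (by decide +kernel)

theorem cosK : ∀ k : K, KO k ∨ ∃ t ∈ es [2, 32, 40], KO (k * t) := BD.of (by decide +kernel)

theorem cosT : ∀ k ∈ TT, k ∈ UU ∨ ∃ t ∈ es [2, 32, 40], k * t ∈ UU := BD.of (by decide +kernel)

theorem efs : ∀ t ∈ (es [2, 32, 40] : List K), t * t = 1 ∧ t ∈ TT ∧ t ∉ UU ∧
    ∀ t' ∈ es [2, 32, 40], t' = t ∨ ∀ t'' ∈ es [2, 32, 40], t'' = t ∨ t'' = t' ∨ t * t' * t'' ∈ UU :=
  BD.of (by decide +kernel)

theorem QQ_e : (e 2 : K) ∉ QQ ∧ (∀ k ∈ QQ, k ∈ TT) ∧ (∀ k ∈ TT, k ∈ QQ ∨ k * e 2 ∈ QQ) ∧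
    ∀ k ∈ QQ, k * k = 1 → k ∈ UU ∨ ∃ c, c * k * c⁻¹ = e 40 :=
  BD.of (by decide +kernel)

theorem card_e : Nat.card {c : K // Commute c (e 2) ∧ c ∈ TT} = 32 :=
  (TG.card_eq _).trans (by decide +kernel)

theorem card_s : Nat.card {c : K // Commute c (e 40)} = 16 :=
  (TG.card_eq _).trans (by decide +kernel)

noncomputable def iU : List K := es [0, 1, 30, 31, 160, 161, 166, 167, 184, 185, 190, 191, 576, 577,
  586, 587, 596, 597, 606, 607, 736, 737, 748, 749, 754, 755, 766, 767]

theorem mem_iU : ∀ k ∈ UU, k * k = 1 → k ∈ iU := BD.of (by decide +kernel)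

theorem e16 : ∀ k ∈ iU, ∀ k' ∈ iU, Commute k k' → ∃ x ∈ iU, Commute x k ∧ Commute x k' ∧ x * x = 1 ∧
    ∃ y ∈ iU, Commute y k ∧ Commute y k' ∧ y * y = 1 ∧ Commute x y ∧
      ∀ v ∈ [x, y, x * y], v ≠ 1 ∧ v ≠ k ∧ v ≠ k' ∧ v ≠ k * k' :=
  BD.of (by decide +kernel)

theorem no_e16 : ∀ t ∈ (es [2, 32, 40] : List K), ∀ x, Commute x t → x * x = 1 → ∀ y, Commute y t →
    y * y = 1 → Commute x y → ∃ v ∈ [x, y, x * y], v = 1 ∨ v = t ∨ v = e 1 ∨ v = t * e 1 :=
  BD.of (by decide +kernel)

theorem tm : CL2.TM UU AA BB :=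
  ⟨fun k => (BD.of (p := ∀ k ∈ AA, k ∈ UU) (by decide +kernel)) k,
    fun k => (BD.of (p := ∀ k ∈ BB, k ∈ UU) (by decide +kernel)) k,
    BD.of (by decide +kernel), BD.of (by decide +kernel),
    fun h => BD.of (p := e 160 ∉ BB) (by decide +kernel) (h (BD.of (by decide +kernel))),
    fun h => BD.of (p := e 166 ∉ AA) (by decide +kernel) (h (BD.of (by decide +kernel))),
    BD.of (by decide +kernel), fun s hs => by
      obtain ⟨a, h1, h2⟩ := BD.of (p := ∀ s ∈ UU, ∃ a ∈ AA, a⁻¹ * s ∈ BB) (by decide +kernel) s hs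
      exact ⟨a, h1, _, h2, mul_inv_cancel_left _ _⟩⟩

theorem card_W : Nat.card (AA ⊓ BB : Subgroup K) = 4 :=
  (card_sub (fun k => k ∈ AA ∧ k ∈ BB) fun _ => Iff.rfl).trans (by decide +kernel)

theorem rel_BA : BB.relIndex AA = 4 := by
  rw [← inf_relIndex_left]
  exact relIndex_of_card inf_le_left card_W
    ((card_sub (· ∈ AA) fun _ => Iff.rfl).trans (by decide +kernel))

theorem swapAB : (∀ a ∈ AA, e 2 * a * (e 2)⁻¹ ∈ BB) ∧ ∀ b ∈ BB, e 2 * b * (e 2)⁻¹ ∈ AA :=
  BD.of (by decide +kernel)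

theorem W_eq : ∀ k ∈ AA, k ∈ BB → k = 1 ∨ k = e 1 ∨ k = e 30 ∨ k = e 31 := BD.of (by decide +kernel)

theorem z_U : (e 1 : K) ∈ UU := BD.of (by decide +kernel)

theorem six : ∀ k, KO k → k ∈ UU ∨
    (k ^ 4 * e 1) ^ 6 = 1 ∧ (k ^ 4 * e 1) ^ 2 ≠ 1 ∧ (k ^ 4 * e 1) ^ 3 ≠ 1 :=
  BD.of (by decide +kernel)

end Cfsg.Agent.L34A
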