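import Cfsg.Agent.L34A.Tabs
import Cfsg.Agent.L34A.Gen

/-! Fusion of the central involution in the four cases. -/

set_option autoImplicit false
set_option maxRecDepth 100000
set_option synthInstance.maxHeartbeats 400000
set_option synthInstance.maxSize 4000

namespace Cfsg.Agent.L34A

open Subgroup Cfsg.Agent.Comp Cfsg.Agent.X32 Cfsg.Agent.X32.TG

section
variable {T : Tab} [Fact T.OK]

noncomputable def sqN (r x : TG T) : ℕ := cntLT T.n fun i =>
  and' (Nat.beq (T.mu (Nat.mod i T.n) r.v) (T.mu r.v (Nat.mod i T.n)))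
    (Nat.beq (T.mu (Nat.mod i T.n) (Nat.mod i T.n)) x.v)

theorem sq_eq (r x : TG T) : sq r x = sqN r x :=
  (TG.card_eq _).trans (by simp only [force_eq]; rfl)

instance instSq (r x r' x' : TG T) : BD (sq r x = sq r' x') (Nat.beq (sqN r x) (sqN r' x')) :=
  ⟨by rw [sq_eq, sq_eq, beq_iff]⟩

theorem solv (h : T.n = 768) : Group.IsSolvable (TG T) :=
  S0144.result 2 3 8 1 Nat.prime_two Nat.prime_three (TG.card.trans h)

end

theorem minN00 : MinN (e 1 : TG T00) := minN_of (es [2, 4, 8, 16]) (BD.of (by decide +kernel))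

theorem minN01 : MinN (e 1 : TG T01) := minN_of (es [2, 4, 8, 16]) (BD.of (by decide +kernel))

theorem minN10 : MinN (e 1 : TG T10) := minN_of (es [2, 4, 8, 16]) (BD.of (by decide +kernel))

theorem minN11 : MinN (e 1 : TG T11) := minN_of (es [2, 4, 8, 16]) (BD.of (by decide +kernel))

variable {G : Type*} [Group G] [Finite G]

theorem solv01 {φ : TG T01 →* G} (h : Setup φ (e 1)) : Group.IsSolvable G := by
  by_contra hG
  have := solv (T := T01) rfl
  obtain ⟨k, g, hk, hg⟩ := exists_fused h minN01 hG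
  obtain ⟨r, hr, r', hr', a, b, -⟩ :=
    exists_pair h (es [2, 30, 32, 40]) (BD.of (by decide +kernel)) hk hg
  revert r' r
  exact BD.of (p := ∀ r ∈ es [2, 30, 32, 40], ∀ r' ∈ es [2, 30, 32, 40],
    sq r (e 1 : TG T01) = sq r' r' → sq r r = sq r' (e 1) → False) (by decide +kernel)

theorem solv11 {φ : TG T11 →* G} (h : Setup φ (e 1)) : Group.IsSolvable G := by
  by_contra hG
  have := solv (T := T11) rfl
  obtain ⟨k, g, hk, hg⟩ := exists_fused h minN11 hG
  obtain ⟨r, hr, r', hr', a, b, -⟩ :=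
    exists_pair h (es [2, 30, 56]) (BD.of (by decide +kernel)) hk hg
  revert r' r
  exact BD.of (p := ∀ r ∈ es [2, 30, 56], ∀ r' ∈ es [2, 30, 56],
    sq r (e 1 : TG T11) = sq r' r' → sq r r = sq r' (e 1) → False) (by decide +kernel)

theorem cls10 : ∀ k : TG T10, k * k = 1 → k = 1 ∨ k = e 1 ∨ ∃ c, c * k * c⁻¹ ∈ es [2, 30, 56, 160] :=
  BD.of (by decide +kernel)

theorem pair10 : ∀ r ∈ (es [2, 30, 56, 160] : List (TG T10)),
    ∀ r' ∈ (es [2, 30, 56, 160] : List (TG T10)), sq r (e 1) = sq r' r' → sq r r = sq r' (e 1) → r = e 160 ∧ r' = e 160 :=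
  BD.of (by decide +kernel)

theorem w10 : (∀ x ∈ es [30, 31], x ≠ 1 ∧ x ≠ e 1 ∧ ∀ c : TG T10, c * x * c⁻¹ ≠ e 160) ∧
    ∀ c : TG T10, Commute c (e 160) → ∀ d, Commute d (e 160) →
      Commute c (e 30) ∨ Commute d (e 30) ∨ Commute (c * d) (e 30) :=
  BD.of (by decide +kernel)

theorem x10 : ∀ x : TG T10, Commute x (e 160) → x * x = 1 →
    (∃ y ∈ [x, x * e 160], y = 1 ∨ y = e 1 ∨ ∃ c, c * y * c⁻¹ = e 160) ∨
    ∃ c, Commute c (e 160) ∧ ¬ Commute c x ∧ ∃ d, Commute d (e 160) ∧ ¬ Commute d x ∧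
      ¬ Commute (c * d) x :=
  BD.of (by decide +kernel)

theorem solv10 {φ : TG T10 →* G} (h : Setup φ (e 1)) : Group.IsSolvable G := by
  by_contra hG
  have := solv (T := T10) rfl
  obtain ⟨k, g, hk, hg⟩ := exists_fused h minN10 hG
  obtain ⟨r, hr, r', hr', a, b, -, g, h1, h2⟩ := exists_pair h _ cls10 hk hg
  obtain ⟨rfl, rfl⟩ := pair10 r hr r' hr' a b
  have nf : ∀ u ∈ es [30, 31], ∀ y, g * φ u * g⁻¹ = φ y →
      ¬ (y = 1 ∨ y = e 1 ∨ ∃ c, c * y * c⁻¹ = e 160) := fun u hu y hy => by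
    have hw := w10.1 u hu
    have : ∀ g, g * φ u * g⁻¹ ≠ φ (e 1) := fun g hg => by
      obtain ⟨r, hr, r', hr', a, b, ⟨c, hc⟩, -⟩ := exists_pair h _ cls10 hw.2.1 hg
      exact hw.2.2 c (hc.trans (pair10 r hr r' hr' a b).1)
    rintro (rfl | rfl | ⟨c, hc⟩)
    · exact hw.1 ((img_eq h hy (img_one g)).2 rfl)
    · exact this g hy
    · exact this (g * φ c * g) (by rw [← h1, ← hc, map_mul, map_mul, ← hy, map_inv]; group)
  obtain ⟨x, hx⟩ := exists_img h h1 (c := e 30) (BD.of (by decide +kernel))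
  rcases x10 x ((img_comm h hx h2).1 (h.zc _))
    ((img_eq h (img_mul hx hx) (img_one g)).1 (BD.of (by decide +kernel))) with
    ⟨y, hy, r⟩ | ⟨c, c1, c2, d, d1, d2, d3⟩
  · simp only [List.mem_cons, List.not_mem_nil, or_false] at hy
    rcases hy with rfl | rfl
    · exact nf _ (BD.of (by decide +kernel)) _ hx r
    · exact nf _ (BD.of (by decide +kernel)) _ (img_mul hx h2) r
  · obtain ⟨c', hc⟩ := exists_img h (img_symm h2) c1
    obtain ⟨d', hd⟩ := exists_img h (img_symm h2) d1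
    rcases w10.2 c' ((img_comm h hc (img_symm h1)).1 (h.zc _)) d'
      ((img_comm h hd (img_symm h1)).1 (h.zc _)) with r | r | r
    · exact c2 ((img_comm h hc (img_symm hx)).2 r)
    · exact d2 ((img_comm h hd (img_symm hx)).2 r)
    · exact d3 ((img_comm h (img_mul hc hd) (img_symm hx)).2 r)

end Cfsg.Agent.L34A
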