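import Cfsg.Agent.L34A.Tabs
import Cfsg.Agent.LES.HJFrame
import Cfsg.Agent.TT.ESType
import Cfsg.Agent.X32.Trans

/-! A centraliser `2^(1+4)_-.S4` is one of four table groups. -/

set_option autoImplicit false
set_option maxRecDepth 100000
set_option synthInstance.maxHeartbeats 400000
set_option synthInstance.maxSize 4000

namespace Cfsg.Agent.L34A

open Subgroup Equiv Cfsg.Agent.Comp Cfsg.Agent.X32 Cfsg.Agent.X32.TG Cfsg.Agent.TT Cfsg.Agent.LES

variable {G : Type*} [Group G]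

/-- the five singular vectors -/
def fv : Fin 5 → (Fin 1 ⊕ Fin 1) ⊕ Fin 2 → ZMod 2 :=
  ![Sum.elim (Sum.elim ![1] ![0]) ![0, 0], Sum.elim (Sum.elim ![0] ![1]) ![0, 0],
    Sum.elim (Sum.elim ![1] ![1]) ![1, 0], Sum.elim (Sum.elim ![1] ![1]) ![0, 1],
    Sum.elim (Sum.elim ![1] ![1]) ![1, 1]]

theorem fv_sq : ∀ i, bMinus 1 (fv i) (fv i) = 0 := by
  simp only [bMinus_apply]; decide

theorem fv_anti : ∀ i j, i ≠ j → bMinus 1 (fv i) (fv j) ≠ bMinus 1 (fv j) (fv i) := by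
  simp only [bMinus_apply]; decide

theorem exists_frame_minus {H : Subgroup G} {E : Subgroup H} [Finite E] {z : G}
    (xs : XS (E.map H.subtype) z) (hE : IsExtraspecial 2 E) (hc : Nat.card E = 32)
    (hm : ∀ A : Subgroup E, IsElementaryAbelian 2 A → Nat.card A ≠ 8) :
    ∃ a, Frame (E.map H.subtype) z a := by
  obtain ⟨-, ⟨⟨φ⟩⟩ | ⟨⟨φ⟩⟩⟩ := exists_equiv_plus_or_minus hE (n := 2) hc
  · obtain ⟨A, hA, hc⟩ := exists_elab_congr φ.symm (exists_elab_plus _)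
    exact absurd hc (hm A hA)
  let ψ : ESM (bMinus 1) →* G := H.subtype.comp (E.subtype.comp φ.symm.toMonoidHom)
  have inj : Function.Injective ψ :=
    H.subtype_injective.comp (E.subtype_injective.comp φ.symm.injective)
  refine ⟨fun i => ψ ⟨fv i, 0⟩, xs, by rw [card_map_subtype, hc],
    fun i => ⟨_, (φ.symm ⟨fv i, 0⟩).2, rfl⟩, fun i => ?_, fun i j h e => ?_⟩
  · rw [← map_mul, ESM.sq_eq_one_iff.2 (fv_sq i), map_one]
  · rw [← map_mul, ← map_mul] at e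
    exact fv_anti i j h (ESM.comm_iff.1 (inj e))

/-- the standard four-cycle -/
def c4 : Perm (Fin 5) := swap 0 1 * swap 1 2 * swap 2 3

theorem conj_c4 : ∀ y : Perm (Fin 5), y * y * (y * y) = 1 → y * y ≠ 1 → ∃ τ, τ⁻¹ * y * τ = c4 := by
  decide +kernel

theorem conj_sw : ∀ x : Perm (Fin 5), x * x = 1 → x * c4 * (x * c4) * (x * c4) = 1 →
    x = swap 0 1 ∨ x = swap 1 2 ∨ x = swap 2 3 ∨ x = swap 0 3 := by
  decide +kernel

theorem eq_one_of_fix : ∀ x : Perm (Fin 5), (∀ k : Fin 4, x k.castSucc = k.castSucc) → x = 1 := by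
  decide +kernel

section
variable {Q : Subgroup G} {z : G} {a : Fin 5 → G}

/-- `t` centralises `z` and permutes four of the involutions -/
def Act (z : G) (a : Fin 5 → G) (t : G) (σ : Perm (Fin 4)) : Prop :=
  t * z = z * t ∧ ∀ k : Fin 4, t * a k.castSucc * t⁻¹ = a (σ k).castSucc

theorem Act.mul {t u : G} {σ τ : Perm (Fin 4)} (h : Act z a t σ) (h' : Act z a u τ) :
    Act z a (t * u) (σ * τ) :=
  ⟨comm_mul_left h.1 h'.1, fun k => by rw [Perm.mul_apply, ← h.2, ← h'.2]; group⟩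

theorem Act.inv {t : G} {σ : Perm (Fin 4)} (h : Act z a t σ) : Act z a t⁻¹ σ⁻¹ :=
  ⟨comm_inv_left h.1, fun k => by
    have := h.2 (σ⁻¹ k)
    rw [show σ (σ⁻¹ k) = k by simp] at this
    rw [← this]; group⟩

theorem Act.of_z (F : Frame Q z a) : Act z a z 1 :=
  ⟨rfl, fun k => conj_eq_of_comm (F.xs.z_comm _ (F.mem _)).symm⟩

theorem Act.eq_one [Finite G] (F : Frame Q z a) (lx : LX Q z) {t : G} (h : Act z a t 1) :
    t = 1 ∨ t = z := by
  obtain ⟨π, h1, h2⟩ := F.exists_hom lx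
  let c : centralizer ({z} : Set G) := ⟨t, mem_centralizer_singleton_iff.2 h.1⟩
  have : t ∈ Q := (h2 c).1 (eq_one_of_fix _ fun k => by
    have := h1 c k.castSucc
    rw [h.2] at this
    exact (F.eqv_inj this).symm)
  exact eqv_one_iff.1 (F.eqv_of_cmv4 this (one_mem _) fun k => by
    rw [cmv_eq_zero.2 (comm_of_conj_eq (h.2 k)), cmv_eq_zero.2 (by simp)])

theorem Act.eq_or [Finite G] (F : Frame Q z a) (lx : LX Q z) {t u : G} {σ τ : Perm (Fin 4)}
    (h : Act z a t σ) (h' : Act z a u τ) (e : σ = τ) : t = u ∨ t = z * u := by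
  have := h.mul h'.inv
  rw [e, mul_inv_cancel] at this
  exact (this.eq_one F lx).imp mul_inv_eq_one.1 mul_inv_eq_iff_eq_mul.1

theorem exists_act (F : Frame Q z a) {h : G} (hz : h * z = z * h) {σ : Perm (Fin 4)}
    (hc : ∀ k : Fin 4, Eqv z (h * a k.castSucc * h⁻¹) (a (σ k).castSucc)) : ∃ t, Act z a t σ := by
  classical
  obtain ⟨y, hy, e⟩ := F.exists_pattern fun k =>
    if h * a k.castSucc * h⁻¹ = a (σ k).castSucc then 0 else 1
  have hyQ : y ∈ Q := by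
    rcases hy with ⟨i, rfl⟩ | ⟨i, j, rfl⟩
    exacts [F.mem i, mul_mem (F.mem i) (F.mem j)]
  refine ⟨h * y, comm_mul_left hz (F.xs.z_comm _ hyQ), fun k => ?_⟩
  have e1 := e k
  rw [show h * y * a k.castSucc * (h * y)⁻¹ = h * (y * a k.castSucc * y⁻¹) * h⁻¹ by group]
  split_ifs at e1 with r
  · rw [conj_eq_of_comm (cmv_eq_zero.1 e1), r]
  · rw [F.xs.conj_of_ne hyQ (F.mem _) (cmv_eq_one.1 e1), ← conj_mul, (hc k).resolve_left r,
      conj_eq_of_comm hz, F.xs.mul_z_z]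

theorem exists_acts [Finite G] (F : Frame Q z a) (lx : LX Q z) {x y : centralizer ({z} : Set G)}
    (hx : ((x * x :) : G) ∈ Q) (hy : ((y * y * (y * y) :) : G) ∈ Q) (hy' : ((y * y :) : G) ∉ Q)
    (hxy : ((x * y * (x * y) * (x * y) :) : G) ∈ Q) : ∃ b, Frame Q z b ∧ (∃ t, Act z b t (swap 0 1)) ∧
      (∃ t, Act z b t (swap 1 2)) ∧ ∃ t, Act z b t (swap 2 3) := by
  obtain ⟨π, h1, h2⟩ := F.exists_hom lx
  rw [← h2] at hx hy hy' hxy
  simp only [map_mul] at hx hy hy' hxy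
  obtain ⟨τ, hτ⟩ := conj_c4 _ hy hy'
  have key : ∀ (h : centralizer ({z} : Set G)) (σ : Perm (Fin 4)),
      (∀ k : Fin 4, (τ⁻¹ * π h * τ) k.castSucc = (σ k).castSucc) → ∃ t, Act z (a ∘ τ) t σ :=
    fun h σ e => exists_act (F.reindex τ) (mem_centralizer_singleton_iff.1 h.2) fun k => by
      simpa [← e] using h1 h (τ k.castSucc)
  have cj : ∀ (h : centralizer ({z} : Set G)), τ⁻¹ * π (y * h * y⁻¹) * τ =
      c4 * (τ⁻¹ * π h * τ) * c4⁻¹ := fun h => by rw [← hτ, map_mul, map_mul, map_inv]; group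
  have ex : ∃ h, τ⁻¹ * π h * τ = swap 0 1 := by
    rcases conj_sw (τ⁻¹ * π x * τ) (by
      rw [show τ⁻¹ * π x * τ * (τ⁻¹ * π x * τ) = τ⁻¹ * (π x * π x) * τ by group, hx]; group) (by
      rw [← hτ]
      calc _ = τ⁻¹ * (π x * π y * (π x * π y) * (π x * π y)) * τ := by group
        _ = 1 := by rw [hxy]; group) with e | e | e | e
    · exact ⟨_, e⟩
    · exact ⟨y * (y * (y * x * y⁻¹) * y⁻¹) * y⁻¹, by rw [cj, cj, cj, e]; decide⟩
    · exact ⟨y * (y * x * y⁻¹) * y⁻¹, by rw [cj, cj, e]; decide⟩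
    · exact ⟨y * x * y⁻¹, by rw [cj, e]; decide⟩
  obtain ⟨h, e⟩ := ex
  exact ⟨_, F.reindex τ, key h _ (by rw [e]; decide), key (y * h * y⁻¹) _ (by rw [cj, e]; decide),
    key (y * (y * h * y⁻¹) * y⁻¹) _ (by rw [cj, cj, e]; decide)⟩

theorem exists_braid [Finite G] (F : Frame Q z a) (lx : LX Q z) {t u : G} {σ τ : Perm (Fin 4)}
    (h : Act z a t σ) (h' : Act z a u τ) (e : τ * (σ * τ) = σ * (τ * σ)) :
    ∃ v, Act z a v τ ∧ v * (t * v) = t * (v * t) := by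
  rcases (h'.mul (h.mul h')).eq_or F lx (h.mul (h'.mul h)) e with r | r
  · exact ⟨u, h', r⟩
  · refine ⟨z * u, by simpa using (Act.of_z F).mul h', ?_⟩
    have z1 : ∀ x, t * (z * x) = z * (t * x) := fun x => by rw [← mul_assoc, h.1, mul_assoc]
    have z2 : ∀ x, u * (z * x) = z * (u * x) := fun x => by rw [← mul_assoc, h'.1, mul_assoc]
    have z3 : ∀ x, z * (z * x) = x := fun x => by rw [← mul_assoc, F.z_sq, one_mul]
    simp only [mul_assoc, z1, z2, z3, r]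

theorem sq_of_braid {t v : G} (hv : v * z = z * v) (ht : t * z = z * t)
    (h : v * (t * v) = t * (v * t)) (h2 : t * t = 1 ∨ t * t = z) : v * v = t * t := by
  have e : v = t * v * t * (t * v)⁻¹ := by
    rw [mul_assoc t v t, ← h]; group
  have e2 : v * v = t * v * (t * t) * (t * v)⁻¹ := by
    conv_lhs => rw [e]
    group
  rcases h2 with r | r <;> rw [e2, r]
  · group
  · exact conj_eq_of_comm (comm_mul_left ht hv)

theorem exists_valid [Finite G] (F : Frame Q z a) (lx : LX Q z) {t₁ u₂ u₃ : G}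
    (h₁ : Act z a t₁ (swap 0 1)) (k₂ : Act z a u₂ (swap 1 2)) (k₃ : Act z a u₃ (swap 2 3)) :
    ∃ g : ℕ → G, g 0 = z ∧ KB.Valid g R0 ∧ ∃ α ∈ [[], [0]], ∃ β ∈ [[], [0]], KB.Valid g (R1 α β) := by
  obtain ⟨t₂, h₂, b₂⟩ := exists_braid F lx h₁ k₂ (by decide)
  obtain ⟨t₃, h₃, b₃⟩ := exists_braid F lx h₂ k₃ (by decide)
  have s₁ : t₁ * t₁ = 1 ∨ t₁ * t₁ = z := Act.eq_one F lx (by simpa using h₁.mul h₁)
  have s₂ := sq_of_braid h₂.1 h₁.1 b₂ s₁
  have s₃ := (sq_of_braid h₃.1 h₂.1 b₃ (s₂ ▸ s₁)).trans s₂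
  have c := (h₃.mul h₁).eq_or F lx (h₁.mul h₃) (by decide)
  have mv : ∀ {t σ}, Act z a t σ → ∀ k : Fin 4, t * a k.castSucc = a (σ k).castSucc * t :=
    fun h k => mul_inv_eq_iff_eq_mul.1 (h.2 k)
  have an : ∀ i j, i ≠ j → a j * a i = z * (a i * a j) := fun i j h => by
    rw [F.anti' h.symm, F.xs.z_comm _ (mul_mem (F.mem i) (F.mem j))]
  have za := fun i => F.xs.z_comm _ (F.mem i)
  refine ⟨fun n => [z, a 0, a 1, a 2, a 3, t₁, t₂, t₃].getD n 1, rfl, ?_, ?_⟩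
  · simp only [KB.Valid, R0, List.forall_mem_cons]
    simp only [KB.ev_cons, KB.ev_nil, List.getD_cons_succ, List.getD_cons_zero, mul_one]
    exact ⟨F.z_sq, za 0, za 1, za 2, za 3, h₁.1, h₂.1, h₃.1, F.sq 0, F.sq 1, F.sq 2, F.sq 3,
      an 0 1 (by decide), an 0 2 (by decide), an 0 3 (by decide), an 1 2 (by decide),
      an 1 3 (by decide), an 2 3 (by decide), mv h₁ 0, mv h₁ 1, mv h₁ 2, mv h₁ 3,
      mv h₂ 0, mv h₂ 1, mv h₂ 2, mv h₂ 3, mv h₃ 0, mv h₃ 1, mv h₃ 2, mv h₃ 3, by simp⟩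
  · have z1 : ∀ x, t₂ * (z * x) = z * (t₂ * x) := fun x => by rw [← mul_assoc, h₂.1, mul_assoc]
    have z2 : ∀ x, t₃ * (z * x) = z * (t₃ * x) := fun x => by rw [← mul_assoc, h₃.1, mul_assoc]
    have b : ∀ x, t₃ * (t₂ * (t₃ * x)) = t₂ * (t₃ * (t₂ * x)) := fun x => by
      simpa [mul_assoc] using congrArg (· * x) b₃
    have c1 : t₃ * t₁ = t₁ * t₃ → t₃ * (t₂ * (t₁ * t₃)) = t₂ * (t₃ * (t₂ * t₁)) := fun c => by
      rw [← c, b]
    have c2 : t₃ * t₁ = z * (t₁ * t₃) → t₃ * (t₂ * (t₁ * t₃)) = z * (t₂ * (t₃ * (t₂ * t₁))) :=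
      fun c => by rw [← b, c, z1, z2, ← mul_assoc z, F.z_sq, one_mul]
    simp only [KB.Valid, R1, List.forall_mem_cons, List.exists_mem_cons_iff]
    simp only [KB.ev_cons, KB.ev_nil, KB.ev_append, List.getD_cons_succ, List.getD_cons_zero,
      mul_one, one_mul, s₂, s₃, F.z_sq, h₁.1, h₂.1, h₃.1, b₂, b₃]
    rcases s₁ with s | s <;> rcases c with c | c
    · simp [s, c, c1 c]
    · simp [s, c, c2 c]
    · simp [s, c, c1 c]
    · simp [s, c, c2 c]

end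

theorem exists_hom_of_valid {g : ℕ → G} {α β : KB.W} (h0 : KB.Valid g R0) (h1 : KB.Valid g (R1 α β))
    {c : ℕ → ℕ → ℕ} {iv : ℕ → ℕ} [Fact (cx TE TS 768 32 ac c iv).OK]
    (red : ∀ h < 24, ∀ k < 24, c h k < 32 ∧
      KB.red (R1 α β) 50 (wS h ++ wS k) = wE (c h k) ++ wS (TS.mu h k)) :
    ∃ φ : TG (cx TE TS 768 32 ac c iv) →* G, φ (e 1) = g 0 := by
  obtain ⟨φ, hφ⟩ := exists_hom_cx (N := TE) (H := TS) (n := 768) (m := 32) (act := ac) (c := c)
    (iv := iv) (by norm_num) rfl (fun a => KB.ev g (wE a)) (fun a => KB.ev g (wS a))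
    (fun a ha b hb => ⟨(redE a ha b hb).1, by
      rw [← (redE a ha b hb).2, KB.ev_red h0, KB.ev_append]⟩)
    (fun a ha b hb => ⟨(redA a ha b hb).1, by
      rw [← KB.ev_append, ← KB.ev_append, ← (redA a ha b hb).2, KB.ev_red h0]⟩)
    (fun a ha b hb => ⟨(red a ha b hb).1, by
      rw [← KB.ev_append, ← KB.ev_append, ← (red a ha b hb).2, KB.ev_red h1]⟩)
  refine ⟨φ, (hφ _).trans ?_⟩
  rw [show (e 1 : TG (cx TE TS 768 32 ac c iv)).v = 1 from Nat.mod_eq_of_lt (show 1 < 768 by norm_num)]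
  simp [wE, wS]

theorem exists_setup [Finite G] {z : G} (hz : orderOf z = 2) (E : Subgroup (centralizer ({z} : Set G)))
    [E.Normal] (hE : IsExtraspecial 2 E) (hc : Nat.card E = 32)
    (hm : ∀ A : Subgroup E, IsElementaryAbelian 2 A → Nat.card A ≠ 8)
    (hCE : centralizer (E : Set (centralizer ({z} : Set G))) ≤ E)
    (ε : (centralizer ({z} : Set G) ⧸ E) ≃* Perm (Fin 4)) :
    (∃ φ : TG T00 →* G, Setup φ (e 1) ∧ φ (e 1) = z) ∨ (∃ φ : TG T01 →* G, Setup φ (e 1) ∧ φ (e 1) = z) ∨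
    (∃ φ : TG T10 →* G, Setup φ (e 1) ∧ φ (e 1) = z) ∨ (∃ φ : TG T11 →* G, Setup φ (e 1) ∧ φ (e 1) = z) := by
  have lx := LX_of_selfCent hz E hE hCE
  obtain ⟨a, F⟩ := exists_frame_minus lx.toXS hE hc hm
  let θ := ε.toMonoidHom.comp (QuotientGroup.mk' E)
  have sur : Function.Surjective θ := ε.surjective.comp (QuotientGroup.mk'_surjective E)
  have ker : ∀ h : centralizer ({z} : Set G),
      (h : G) ∈ E.map (centralizer ({z} : Set G)).subtype ↔ θ h = 1 := fun h => by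
    rw [coe_mem_map_subtype, ← QuotientGroup.eq_one_iff]
    exact (map_eq_one_iff _ ε.injective).symm
  obtain ⟨x, hx⟩ := sur (swap 0 1)
  obtain ⟨y, hy⟩ := sur (swap 0 1 * swap 1 2 * swap 2 3)
  obtain ⟨b, F', ⟨_, h₁⟩, ⟨_, h₂⟩, _, h₃⟩ := exists_acts F lx (x := x) (y := y)
    (by rw [ker]; simp only [map_mul, hx]; decide) (by rw [ker]; simp only [map_mul, hy]; decide)
    (by rw [ker]; simp only [map_mul, hy]; decide) (by rw [ker]; simp only [map_mul, hx, hy]; decide)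
  obtain ⟨g, g0, v0, α, hα, β, hβ, v1⟩ := exists_valid F' lx h₁ h₂ h₃
  have z1 := lx.z_ne
  have cH : Nat.card (centralizer ({z} : Set G)) = 768 := by
    rw [card_eq_card_quotient_mul_card_subgroup E, hc, Nat.card_congr ε.toEquiv, Nat.card_perm]
    simp [Nat.factorial]
  simp only [List.mem_cons, List.not_mem_nil, or_false] at hα hβ
  rcases hα with rfl | rfl <;> rcases hβ with rfl | rfl
  · obtain ⟨φ, h⟩ : ∃ φ : TG T00 →* G, φ (e 1) = g 0 :=
      @exists_hom_of_valid _ _ _ _ _ v0 v1 _ _ fact00 red00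
    rw [g0] at h
    exact Or.inl ⟨φ, Setup.of_card (h ▸ z1) (BD.of (by decide +kernel))
      (BD.of (by decide +kernel)) (es [2, 4, 8, 16]) (BD.of (by decide +kernel))
      (by rw [h, cH, TG.card]; rfl), h⟩
  · obtain ⟨φ, h⟩ : ∃ φ : TG T01 →* G, φ (e 1) = g 0 :=
      @exists_hom_of_valid _ _ _ _ _ v0 v1 _ _ fact01 red01
    rw [g0] at h
    exact Or.inr (Or.inl ⟨φ, Setup.of_card (h ▸ z1) (BD.of (by decide +kernel))
      (BD.of (by decide +kernel)) (es [2, 4, 8, 16]) (BD.of (by decide +kernel))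
      (by rw [h, cH, TG.card]; rfl), h⟩)
  · obtain ⟨φ, h⟩ : ∃ φ : TG T10 →* G, φ (e 1) = g 0 :=
      @exists_hom_of_valid _ _ _ _ _ v0 v1 _ _ fact10 red10
    rw [g0] at h
    exact Or.inr (Or.inr (Or.inl ⟨φ, Setup.of_card (h ▸ z1) (BD.of (by decide +kernel))
      (BD.of (by decide +kernel)) (es [2, 4, 8, 16]) (BD.of (by decide +kernel))
      (by rw [h, cH, TG.card]; rfl), h⟩))
  · obtain ⟨φ, h⟩ : ∃ φ : TG T11 →* G, φ (e 1) = g 0 :=
      @exists_hom_of_valid _ _ _ _ _ v0 v1 _ _ fact11 red11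
    rw [g0] at h
    exact Or.inr (Or.inr (Or.inr ⟨φ, Setup.of_card (h ▸ z1) (BD.of (by decide +kernel))
      (BD.of (by decide +kernel)) (es [2, 4, 8, 16]) (BD.of (by decide +kernel))
      (by rw [h, cH, TG.card]; rfl), h⟩))

end Cfsg.Agent.L34A
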